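import Groth.Agent.Lib.DefUniq10.Gen
import Groth.Agent.Lib.UnifVanish7.Thick
import Groth.Agent.Lib.DefSm26.ExtSet
import Groth.Prelude.Def_ArtFun4

/-!
# The ideal of a deformation inside a semi-small extension of it
-/

set_option autoImplicit false
set_option linter.all false
set_option backward.isDefEq.respectTransparency false
set_option maxHeartbeats 1000000

universe u

open CategoryTheory CategoryTheory.Limits AlgebraicGeometry TopologicalSpace Opposite

noncomputable section

namespace GrothLib.DefUniq10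

open _root_.ArtFun _root_.ArtFun.Art
open GrothLib.FormalFun (toSec)

variable {k : Type u} [Field k] {X₀ : Scheme.{u}} {x : X₀ ⟶ specPt k} {C' C : Art k k} (p : C' ⟶ C)
  (hp : IsSemismallExt p) (X' : DefSch X₀ x C')

/-- The ideal of `X' ×_{C'} C`. -/
def idealC : X'.total.IdealSheafData := (pullback.fst X'.f (specMap p)).ker

include hp in
theorem isClosedImmersion_specMap : IsClosedImmersion (specMap p) :=
  IsClosedImmersion.spec_of_surjective (CommRingCat.ofHom p.toAlgHom.toRingHom) hp.1

theorem isClosedImmersion_i : IsClosedImmersion X'.i :=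
  letI : X'.total.Over (Spec (CommRingCat.of C'.carrier)) := ⟨X'.f⟩
  UnifVanish7.isClosedImmersion_of_square (X := X₀) (Y := X'.total) (i := X'.i) (p := x) C'.res.toRingHom C'.res_surjective X'.isPullback

theorem toSec_eq_sec (U : X'.total.Opens) (c : C'.carrier) :
    letI : X'.total.Over (Spec (CommRingCat.of C'.carrier)) := ⟨X'.f⟩
    toSec C'.carrier U c = sec U (Coh.toGlobal X'.f c) := rfl

theorem flat_toSec (U : X'.total.affineOpens) :
    letI : X'.total.Over (Spec (CommRingCat.of C'.carrier)) := ⟨X'.f⟩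
    (toSec C'.carrier U.1).Flat := by
  letI : X'.total.Over (Spec (CommRingCat.of C'.carrier)) := ⟨X'.f⟩
  haveI : Flat X'.f := X'.flat
  have h := Flat.flat_appLE X'.f (isAffineOpen_top _) U.2 le_top
  have h2 : ((Scheme.ΓSpecIso (CommRingCat.of C'.carrier)).inv).hom.Flat :=
    RingHom.Flat.of_bijective (ConcreteCategory.bijective_of_isIso _)
  have e : toSec C'.carrier U.1 = (X'.f.appLE ⊤ U.1 le_top).hom.comp (Scheme.ΓSpecIso (CommRingCat.of C'.carrier)).inv.hom := by
    rfl
  rw [e]
  exact RingHom.Flat.comp h2 h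

include hp in
theorem idealC_ideal (U : X'.total.affineOpens) :
    letI : X'.total.Over (Spec (CommRingCat.of C'.carrier)) := ⟨X'.f⟩
    (idealC p X').ideal U = (RingHom.ker p.toAlgHom.toRingHom).map (toSec C'.carrier U.1) :=
  letI : X'.total.Over (Spec (CommRingCat.of C'.carrier)) := ⟨X'.f⟩
  UnifVanish7.ideal_ker_of_square p.toAlgHom.toRingHom hp.1 (IsPullback.of_hasPullback X'.f (specMap p)) U

theorem ker_i_ideal (U : X'.total.affineOpens) :
    letI : X'.total.Over (Spec (CommRingCat.of C'.carrier)) := ⟨X'.f⟩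
    X'.i.ker.ideal U = (RingHom.ker C'.res.toRingHom).map (toSec C'.carrier U.1) :=
  letI : X'.total.Over (Spec (CommRingCat.of C'.carrier)) := ⟨X'.f⟩
  UnifVanish7.ideal_ker_of_square C'.res.toRingHom C'.res_surjective X'.isPullback U

include hp in
theorem idealC_sq : idealC p X' ^ 2 = ⊥ := by
  letI : X'.total.Over (Spec (CommRingCat.of C'.carrier)) := ⟨X'.f⟩
  refine Scheme.IdealSheafData.ext (funext fun U => ?_)
  rw [pow_two, Scheme.IdealSheafData.ideal_mul, Scheme.IdealSheafData.ideal_bot, Pi.mul_apply,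
    idealC_ideal p hp, ← Ideal.map_mul, Pi.bot_apply, eq_bot_iff]
  refine le_trans (Ideal.map_mono ?_) (le_of_eq Ideal.map_bot)
  refine le_trans (Ideal.mul_mono_left ?_) (le_of_eq hp.2)
  exact IsLocalRing.le_maximalIdeal (RingHom.ker_ne_top _)

include hp in
theorem exists_isBasis : ∃ (r : ℕ) (a : Fin r → Coh.Γtop X'.total), IsBasis X'.i (idealC p X') a := by
  letI : X'.total.Over (Spec (CommRingCat.of C'.carrier)) := ⟨X'.f⟩
  haveI := DefSm26.finite_ker hp
  let K := RingHom.ker p.toAlgHom
  let r := Module.finrank k ↥K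
  let b : Module.Basis (Fin r) k ↥K := Module.finBasis k ↥K
  refine ⟨r, fun l => Coh.toGlobal X'.f (b l : C'.carrier), ?_⟩
  have hmem : ∀ (U : X'.total.affineOpens) (l : Fin r),
      toSec C'.carrier U.1 (b l : C'.carrier) ∈ (idealC p X').ideal U := fun U l => by
    rw [idealC_ideal p hp]
    exact Ideal.mem_map_of_mem _ (b l).2
  have hspan : RingHom.ker p.toAlgHom.toRingHom = Ideal.span (Set.range fun l => (b l : C'.carrier)) := by
    refine le_antisymm (fun t ht => ?_) (Ideal.span_le.2 ?_)
    · have h := congrArg (Subtype.val : ↥K → C'.carrier) (b.sum_repr ⟨t, ht⟩)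
      rw [AddSubmonoidClass.coe_finset_sum] at h
      have h' : t = ∑ l, (b.repr ⟨t, ht⟩ l) • (b l : C'.carrier) := h.symm
      rw [h']
      refine Ideal.sum_mem _ fun l _ => ?_
      rw [Algebra.smul_def]
      exact Ideal.mul_mem_left _ _ (Ideal.subset_span ⟨l, rfl⟩)
    · rintro _ ⟨l, rfl⟩
      exact (b l).2
  constructor
  · intro U l c hc
    rw [← toSec_eq_sec]
    rw [ker_i_ideal] at hc
    have h : toSec C'.carrier U.1 (b l : C'.carrier) * c ∈
        (Ideal.span {(b l : C'.carrier)} * RingHom.ker C'.res.toRingHom).map (toSec C'.carrier U.1) := by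
      rw [Ideal.map_mul]
      exact Ideal.mul_mem_mul (Ideal.mem_map_of_mem _ (Ideal.subset_span rfl)) hc
    have h0 : Ideal.span {(b l : C'.carrier)} * RingHom.ker C'.res.toRingHom = ⊥ := by
      rw [eq_bot_iff, mul_comm]
      refine le_trans (Ideal.mul_mono ?_ ?_) (le_of_eq hp.2)
      · intro t ht
        exact (C'.mem_maximalIdeal_iff t).2 ht
      · rw [Ideal.span_le, Set.singleton_subset_iff]
        exact (b l).2
    rw [h0, Ideal.map_bot] at h
    exact h
  · intro U l
    rw [← toSec_eq_sec]
    exact hmem U l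
  · intro U c hc
    rw [idealC_ideal p hp, hspan, Ideal.map_span, ← Set.range_comp] at hc
    obtain ⟨e, he⟩ := (Ideal.mem_span_range_iff_exists_fun).1 hc
    refine ⟨e, ?_⟩
    rw [← he]
    exact Finset.sum_congr rfl fun l _ => mul_comm _ _
  · intro U c hc l
    letI : Algebra C'.carrier Γ(X'.total, U.1) := (toSec C'.carrier U.1).toAlgebra
    haveI : Module.Flat C'.carrier Γ(X'.total, U.1) := flat_toSec X' U
    have h0 : ∑ j, (b j : C'.carrier) • c j = 0 := by
      refine Eq.trans ?_ hc
      exact Finset.sum_congr rfl fun j _ => Algebra.smul_def _ _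
    obtain ⟨n, y, e, hy, hz⟩ := Module.Flat.isTrivialRelation_of_sum_smul_eq_zero (R := C'.carrier) (M := Γ(X'.total, U.1))
      (f := fun j => (b j : C'.carrier)) (x := c) h0
    have hres : ∀ j i', C'.res (y i' j) = 0 := by
      intro j i'
      have h1 : ∑ m, (C'.res (y m j)) • b m = 0 := by
        apply Subtype.ext
        rw [AddSubmonoidClass.coe_finset_sum, ZeroMemClass.coe_zero]
        refine Eq.trans (Finset.sum_congr rfl fun m _ => ?_) (hz j)
        show C'.res (y m j) • (b m : C'.carrier) = (b m : C'.carrier) * y m j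
        rw [mul_comm, DefSm26.ker_smul hp (y m j) (RingHom.mem_ker.1 (b m).2)]
      exact (Fintype.linearIndependent_iff.1 b.linearIndependent _ h1) i'
    rw [ker_i_ideal, hy l]
    refine Ideal.sum_mem _ fun j _ => ?_
    rw [Algebra.smul_def]
    exact Ideal.mul_mem_right _ _ (Ideal.mem_map_of_mem _ (RingHom.mem_ker.2 (hres j l)))

end GrothLib.DefUniq10
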