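import Groth.Agent.Lib.DefUniq10.Gen

/-!
# Uniqueness of locally free lifts when the ideal is free over a smaller subscheme
-/

set_option autoImplicit false
set_option linter.all false
set_option backward.isDefEq.respectTransparency false
set_option maxHeartbeats 1000000

universe u

open CategoryTheory CategoryTheory.Limits AlgebraicGeometry TopologicalSpace Opposite

noncomputable section

namespace GrothLib.DefUniq10

variable {X Z : Scheme.{u}} (i : Z ⟶ X) [IsClosedImmersion i] (I : X.IdealSheafData) {r : ℕ}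

local notation "Pl" => Scheme.Modules.pullback (Scheme.IdealSheafData.subschemeι I)
local notation "Ps" => Scheme.Modules.pushforward (Scheme.IdealSheafData.subschemeι I)
local notation "adj" => Scheme.Modules.pullbackPushforwardAdjunction (Scheme.IdealSheafData.subschemeι I)

/-- `i_* O_Z ⊗ F ≅ i_* i^* F`. -/
def quotIso (F : X.Modules) :
    ((DCoh.tensorBi (X := X)).flip.obj F).obj ((Scheme.Modules.pushforward i).obj (Coh.structureModule Z)) ≅
      (Scheme.Modules.pushforward i).obj ((Scheme.Modules.pullback i).obj F) :=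
  ((OX.tensorBraiding (X := X)).app F).app _ ≪≫
    (@asIso _ _ _ _ _ (OX.isIso_projHom_closed i F (Coh.structureModule Z))) ≪≫
    (Scheme.Modules.pushforward i).mapIso
      (((OX.tensorBraiding (X := Z)).app (Coh.structureModule Z)).app ((Scheme.Modules.pullback i).obj F) ≪≫
        OX.tensorUnitLeftIso _)

theorem nonempty_tensor_iso (φ : ClSub.idealMod I ≅ ⨁ fun _ : Fin r => (Scheme.Modules.pushforward i).obj (Coh.structureModule Z))
    (F : X.Modules) :
    Nonempty (((DCoh.tensorBi (X := X)).flip.obj F).obj (ClSub.idealMod I) ≅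
      (Scheme.Modules.pushforward i).obj (⨁ fun _ : Fin r => (Scheme.Modules.pullback i).obj F)) := by
  let T := (DCoh.tensorBi (X := X)).flip.obj F
  let S := Scheme.Modules.pushforward i
  haveI : S.Additive := (Scheme.Modules.pullbackPushforwardAdjunction i).right_adjoint_additive
  exact ⟨T.mapIso φ ≪≫ T.mapBiproduct _ ≪≫ biproduct.mapIso (fun _ => quotIso i F) ≪≫ (S.mapBiproduct _).symm⟩

variable {i I}

theorem exists_extension (φ : ClSub.idealMod I ≅ ⨁ fun _ : Fin r => (Scheme.Modules.pushforward i).obj (Coh.structureModule Z))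
    {E F : X.Modules} (hE : FlatMod.IsFinLocFree E) (hF : FlatMod.IsFlat F) [HasExt.{u} Z.Modules]
    (h1 : Subsingleton (Abelian.Ext.{u} ((Scheme.Modules.pullback i).obj E) ((Scheme.Modules.pullback i).obj F) 1))
    (u₀ : (Pl).obj E ⟶ (Pl).obj F) : ∃ v : E ⟶ F, (Pl).map v = u₀ := by
  have hS := SqZeroHom26.shortExact_mulHom I F hF
  obtain ⟨ψ⟩ := nonempty_tensor_iso i I φ F
  obtain ⟨W, a, b, q, w', hW, hsq⟩ := K0Sub.shortExact_pullback _ hS ((adj).unit.app E ≫ (Ps).map u₀)
  have hext : Subsingleton (Abelian.Ext.{u} ((Scheme.Modules.pullback i).obj E)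
      (⨁ fun _ : Fin r => (Scheme.Modules.pullback i).obj F) 1) :=
    (Abelian.Ext.addEquivBiproduct _ (biproduct.isBilimit fun _ : Fin r => (Scheme.Modules.pullback i).obj F) 1).toEquiv.subsingleton
  obtain ⟨r', hr⟩ := SqZeroHom26.exists_retraction i _ hW ψ hE hext
  haveI := hW.epi_g
  let spl := ShortComplex.Splitting.ofExactOfRetraction (ShortComplex.mk a b w') hW.exact r' hr hW.epi_g
  refine ⟨spl.s ≫ q, ((adj).homEquiv _ _).injective ?_⟩
  rw [Adjunction.homEquiv_unit, Adjunction.homEquiv_unit]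
  refine ((adj).unit.naturality (spl.s ≫ q)).symm.trans ?_
  show (spl.s ≫ q) ≫ (adj).unit.app F = _
  rw [Category.assoc]
  refine (congrArg (spl.s ≫ ·) hsq.w).trans ?_
  exact (Category.assoc _ _ _).symm.trans ((congrArg (· ≫ _) spl.s_g).trans (Category.id_comp _))

theorem subsingleton_ext_of_iso [HasExt.{u} Z.Modules] {A B G : Z.Modules} (e : A ≅ G) (e' : B ≅ G)
    (h : Subsingleton (Abelian.Ext.{u} G G 1)) : Subsingleton (Abelian.Ext.{u} A B 1) := by
  refine ⟨fun x y => ?_⟩
  have h' := congrArg (fun z => ((Abelian.Ext.mk₀ e.hom).comp z (zero_add 1)).comp (Abelian.Ext.mk₀ e'.inv) (add_zero 1))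
    (@Subsingleton.elim _ h (((Abelian.Ext.mk₀ e.inv).comp x (zero_add 1)).comp (Abelian.Ext.mk₀ e'.hom) (add_zero 1))
      (((Abelian.Ext.mk₀ e.inv).comp y (zero_add 1)).comp (Abelian.Ext.mk₀ e'.hom) (add_zero 1)))
  simpa using h'

/-- Lifts are unique. -/
theorem nonempty_iso_of_ext (φ : ClSub.idealMod I ≅ ⨁ fun _ : Fin r => (Scheme.Modules.pushforward i).obj (Coh.structureModule Z))
    (hI : I ^ 2 = ⊥) {E E' : X.Modules} (hE : FlatMod.IsFinLocFree E) (hE' : FlatMod.IsFinLocFree E')
    (e : (Pl).obj E ≅ (Pl).obj E') [HasExt.{u} Z.Modules] {G : Z.Modules}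
    (g : (Scheme.Modules.pullback i).obj E ≅ G) (g' : (Scheme.Modules.pullback i).obj E' ≅ G)
    (h : Subsingleton (Abelian.Ext.{u} G G 1)) : Nonempty (E ≅ E') := by
  have hfE := OX.flat_of_isFinLocFree hE
  have hfE' := OX.flat_of_isFinLocFree hE'
  obtain ⟨u, hu⟩ := exists_extension φ hE hfE' (subsingleton_ext_of_iso g g' h) e.hom
  obtain ⟨v, hv⟩ := exists_extension φ hE' hfE (subsingleton_ext_of_iso g' g h) e.inv
  haveI := SqZeroHom26.isIso_of_map_eq_id I hI hfE (u ≫ v) (by rw [Functor.map_comp, hu, hv, e.hom_inv_id])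
  haveI := SqZeroHom26.isIso_of_map_eq_id I hI hfE' (v ≫ u) (by rw [Functor.map_comp, hu, hv, e.inv_hom_id])
  haveI : Mono u := mono_of_mono u v
  haveI : Epi u := epi_of_epi v u
  haveI : IsIso u := isIso_of_mono_of_epi u
  exact ⟨asIso u⟩

end GrothLib.DefUniq10
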