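import Groth.Agent.Lib.SqZeroHom26.Lift
import Groth.Agent.Lib.RibBlow10.Mods
import Groth.Prelude.Def_Formal

/-!
# An ideal which is a free module over a smaller closed subscheme
-/

set_option autoImplicit false
set_option linter.all false
set_option backward.isDefEq.respectTransparency false
set_option maxHeartbeats 1000000

universe u

open CategoryTheory CategoryTheory.Limits AlgebraicGeometry TopologicalSpace Opposite

noncomputable section

namespace GrothLib.DefUniq10

open GrothLib.QCoh (stalkLin)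

instance hasFiniteBiproducts_modules (Y : Scheme.{u}) : HasFiniteBiproducts Y.Modules :=
  Abelian.hasFiniteBiproducts

variable {X : Scheme.{u}}

theorem eq_of_affines {M : X.Modules} {W : X.Opens} (s t : Γ(M, W))
    (h : ∀ (T : X.affineOpens) (hT : T.1 ≤ W), InvExt.mres M hT s = InvExt.mres M hT t) : s = t := by
  refine TopCat.Sheaf.eq_of_locally_eq' ⟨M.presheaf, M.isSheaf⟩ (fun T : {T : X.affineOpens // T.1 ≤ W} => T.1.1) W
    (fun T => homOfLE T.2) (fun x hx => ?_) s t fun T => h T.1 T.2
  obtain ⟨T, hxT, hT⟩ := GrothLib.BlowUp.exists_affine_mem_le hx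
  exact Opens.mem_iSup.mpr ⟨⟨T, hT⟩, hxT⟩

theorem app_mres {M N : X.Modules} (φ : M ⟶ N) {V W : X.Opens} (h : W ≤ V) (m : Γ(M, V)) :
    φ.app W (InvExt.mres M h m) = InvExt.mres N h (φ.app V m) :=
  ConcreteCategory.congr_hom (φ.mapPresheaf.naturality (homOfLE h).op) m

theorem eq_zero_of_affines {M N : X.Modules} (φ : M ⟶ N)
    (h : ∀ (U : X.affineOpens) (m : Γ(M, U.1)), φ.app U.1 m = 0) : φ = 0 := by
  refine Scheme.Modules.hom_ext _ _ fun W => AddCommGrpCat.ext fun s => ?_
  show φ.app W s = 0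
  refine eq_of_affines _ _ fun T hT => ?_
  rw [← app_mres φ hT s, h]
  exact (map_zero (N.presheaf.map (homOfLE hT).op).hom).symm

theorem app_sum {M N : X.Modules} {ι : Type*} (s : Finset ι) (f : ι → (M ⟶ N)) (U : X.Opens) (m : Γ(M, U)) :
    (∑ l ∈ s, f l).app U m = ∑ l ∈ s, (f l).app U m := by
  classical
  induction s using Finset.induction with
  | empty => rfl
  | @insert x s hx ih => rw [Finset.sum_insert hx, Finset.sum_insert hx, ← ih]; rfl

theorem mono_of_affines {M N : X.Modules} (φ : M ⟶ N)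
    (h : ∀ (U : X.affineOpens) (m : Γ(M, U.1)), φ.app U.1 m = 0 → m = 0) : Mono φ := by
  refine Preadditive.mono_of_kernel_zero (eq_zero_of_affines _ fun U m => h U _ ?_)
  exact congr($(kernel.condition φ).app U.1 m)

theorem epi_of_affines {M N : X.Modules} (φ : M ⟶ N)
    (h : ∀ (U : X.affineOpens), Function.Surjective (φ.app U.1)) : Epi φ := by
  refine (OX.epi_iff _).2 fun x => (ModuleCat.epi_iff_surjective _).2 ?_
  intro e
  obtain ⟨U, hx, m, rfl⟩ := TopCat.Presheaf.exists_germ_eq
    N.presheaf (show N.presheaf.stalk x from e)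
  obtain ⟨W, hW, hxW, hWU⟩ := exists_isAffineOpen_mem_and_subset (x := x) (U := U) hx
  obtain ⟨r, hr⟩ := h ⟨W, hW⟩ (N.presheaf.map (homOfLE (show W ≤ U from hWU)).op m)
  refine ⟨M.presheaf.germ W x hxW r, ?_⟩
  change stalkLin φ x (M.presheaf.germ W x hxW r) = _
  rw [QCoh.stalkLin_germ, hr]
  exact TopCat.Presheaf.germ_res_apply _ _ _ _ _

section Closed

variable {Z : Scheme.{u}} (i : Z ⟶ X) [IsClosedImmersion i]

local notation "O" => Coh.structureModule

theorem surjective_unitToPush (U : X.affineOpens) : Function.Surjective ((ClSub.unitToPush i).app U.1) :=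
  i.app_surjective U.1 U.2

theorem mem_ker_of_unitToPush_eq_zero (U : X.affineOpens) (b : Γ(X, U.1))
    (h : (ClSub.unitToPush i).app U.1 b = 0) : b ∈ i.ker.ideal U := by
  rw [Scheme.Hom.ker_apply]
  exact h

/-- A global function, restricted. -/
def sec (U : X.Opens) (a : Coh.Γtop X) : Γ(X, U) := Coh.resTop X (op U) a

variable (I : X.IdealSheafData) {r : ℕ} (a : Fin r → Coh.Γtop X)

/-- The conditions on the generators. -/
structure IsBasis : Prop where
  kill : ∀ (U : X.affineOpens) (l : Fin r) (b : Γ(X, U.1)), b ∈ i.ker.ideal U → sec U.1 (a l) * b = 0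
  mem : ∀ (U : X.affineOpens) (l : Fin r), sec U.1 (a l) ∈ I.ideal U
  span : ∀ (U : X.affineOpens) (b : Γ(X, U.1)), b ∈ I.ideal U → ∃ c : Fin r → Γ(X, U.1), ∑ l, sec U.1 (a l) * c l = b
  indep : ∀ (U : X.affineOpens) (c : Fin r → Γ(X, U.1)), ∑ l, sec U.1 (a l) * c l = 0 → ∀ l, c l ∈ i.ker.ideal U

variable {i I a}

theorem smul_app (g : Coh.Γtop X) (U : X.Opens) (c : Γ(X, U)) :
    (Formal.smulModΓ (O X) g).app U c = sec U g * c := rfl

variable (hB : IsBasis i I a)
include hB

theorem smul_toSubscheme (l : Fin r) : Formal.smulModΓ (O X) (a l) ≫ ClSub.toSubscheme I = 0 := by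
  refine eq_zero_of_affines _ fun U c => ?_
  show (ClSub.toSubscheme I).app U.1 ((Formal.smulModΓ (O X) (a l)).app U.1 c) = 0
  rw [smul_app]
  show I.subschemeι.app U.1 _ = 0
  have h : sec U.1 (a l) * (show Γ(X, U.1) from c) ∈ I.ideal U := Ideal.mul_mem_right _ _ (hB.mem U l)
  rw [← I.ker_subschemeι_app U] at h
  exact h

theorem exists_comp (l : Fin r) : ∃ μ : (Scheme.Modules.pushforward i).obj (O Z) ⟶ ClSub.idealMod I,
    ∀ (U : X.affineOpens) (c : Γ(X, U.1)),
      IdealModSec.val I U.1 (μ.app U.1 ((ClSub.unitToPush i).app U.1 c)) = sec U.1 (a l) * c := by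
  let s : O X ⟶ ClSub.idealMod I :=
    kernel.lift (ClSub.toSubscheme I) (Formal.smulModΓ (O X) (a l)) (smul_toSubscheme hB l)
  have hs : s ≫ ClSub.idealModι I = Formal.smulModΓ (O X) (a l) := kernel.lift_ι _ _ _
  haveI : Epi (ClSub.unitToPush i) := epi_of_affines _ (surjective_unitToPush i)
  have hk : kernel.ι (ClSub.unitToPush i) ≫ s = 0 := by
    refine eq_zero_of_affines _ fun U m => IdealModSec.val_injective I U.1 ?_
    rw [IdealModSec.val_zero]
    show (ClSub.idealModι I).app U.1 (s.app U.1 ((kernel.ι (ClSub.unitToPush i)).app U.1 m)) = 0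
    have h := congr($(hs).app U.1 ((kernel.ι (ClSub.unitToPush i)).app U.1 m))
    refine h.trans ?_
    rw [smul_app]
    exact hB.kill U l _ (mem_ker_of_unitToPush_eq_zero i U _ congr($(kernel.condition (ClSub.unitToPush i)).app U.1 m))
  refine ⟨Abelian.epiDesc (ClSub.unitToPush i) s hk, fun U c => ?_⟩
  have h : Abelian.epiDesc (ClSub.unitToPush i) s hk = Abelian.epiDesc (ClSub.unitToPush i) s hk := rfl
  have h2 := congr($(Abelian.comp_epiDesc (ClSub.unitToPush i) s hk).app U.1 c)
  refine (congrArg (IdealModSec.val I U.1) h2).trans ?_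
  exact congr($(hs).app U.1 c)

theorem nonempty_iso : Nonempty (ClSub.idealMod I ≅ ⨁ fun _ : Fin r => (Scheme.Modules.pushforward i).obj (O Z)) := by
  choose μ hμ using exists_comp hB
  let P : Fin r → X.Modules := fun _ => (Scheme.Modules.pushforward i).obj (O Z)
  let φ : ⨁ P ⟶ ClSub.idealMod I := biproduct.desc μ
  have hφ : ∀ (U : X.affineOpens) (c : Fin r → Γ(X, U.1)),
      IdealModSec.val I U.1 (φ.app U.1 (∑ l, (biproduct.ι P l).app U.1 ((ClSub.unitToPush i).app U.1 (c l)))) =
        ∑ l, sec U.1 (a l) * c l := by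
    intro U c
    show (ClSub.idealModι I).app U.1 _ = _
    rw [map_sum, map_sum]
    refine Finset.sum_congr rfl fun l _ => ?_
    have h := congr($(biproduct.ι_desc μ l).app U.1 ((ClSub.unitToPush i).app U.1 (c l)))
    exact (congrArg ((ClSub.idealModι I).app U.1) h).trans (hμ l U (c l))
  haveI : Epi φ := by
    refine epi_of_affines _ fun U m => ?_
    obtain ⟨c, hc⟩ := hB.span U _ (IdealModSec.val_mem I U m)
    exact ⟨_, IdealModSec.val_injective I U.1 ((hφ U c).trans hc)⟩
  haveI : Mono φ := by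
    refine mono_of_affines _ fun U t ht => ?_
    choose c hc using fun l => surjective_unitToPush i U ((biproduct.π P l).app U.1 t)
    have hsum : ∑ l, (biproduct.ι P l).app U.1 ((ClSub.unitToPush i).app U.1 (c l)) = t := by
      simp only [hc]
      have h := congr($(biproduct.total (f := P)).app U.1 t)
      refine Eq.trans ?_ h
      rw [app_sum]
      exact Finset.sum_congr rfl fun l _ => rfl
    have h0 := hφ U c
    rw [hsum, ht, IdealModSec.val_zero] at h0
    have hker := hB.indep U c h0.symm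
    rw [← hsum]
    refine Finset.sum_eq_zero fun l _ => ?_
    have hz : (ClSub.unitToPush i).app U.1 (c l) = 0 := by
      have := hker l
      rw [Scheme.Hom.ker_apply] at this
      exact this
    rw [hz, map_zero]
  haveI : IsIso φ := isIso_of_mono_of_epi φ
  exact ⟨(asIso φ).symm⟩

end Closed

end GrothLib.DefUniq10
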